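import Mathlib
import Cfsg.Prelude.Def_Classical
import Cfsg.Prelude.Def_ClassicalGeometry
import Cfsg.Prelude.Def_GeometricClasses
import Cfsg.Agent.Lib.Lead.STB.Defs
import Cfsg.Agent.Lib.Helper28.OMM.Defs

/-!
# Project OMB (matrix side of S2094): `Ω_{2l+1}(F) = ⟨TbL a b t, TbS a t⟩`, the matrix `SysB`, the centre of `Ω_{2l+1}(F)`.
designer: helper12.  Definitions.  See `Skel.lean.txt` in this folder.  Port of helper28's OMM (type `D`) to type `B`.

Index type `Ix (Fin l) = Unit ⊕ (Fin l ⊕ Fin l)` (`i0 = inl ()` the coordinate `0`, `inr (inl i) = e_i`, `inr (inr i) = e_{-i}`),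
`Q = Cfsg.quadFormOdd l F`, `Q v = v₀² + Σ_i v (inr (inl i)) * v (inr (inr i))`.
* `omatB g` : the underlying matrix of `g : Ω F (quadFormOdd l F)`; `oglB : Ω →* GL`.
* `bB x y` : the polar form of `Q`, `bB x y = 2 x₀ y₀ + Σ_i (x_i y_{-i} + y_i x_{-i})`.
* `sgActB u v c x = x + c • (bB u x • v - bB v x • u)` : the Siegel transformation (long root element), `IsSgB t u v c`.
* `EOB l F` : the subgroup of `GL (Ix (Fin l)) F` generated by the elements with matrix `TbL a b t` (`a ≠ b`, `a ≠ ng b`) or `TbS a t`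
  (`TbL`, `TbS` of `Lead.STB.Defs`).
* `embM A = fromBlocks 1 0 0 A`, `embGL : GL (ι ⊕ ι) F →* GL (Ix ι) F` : the embedding of the hyperplane `e_0^⊥` (`TbL a b t = embM (Td a b t)`),
  `ex0 u = Sum.elim 0 u` : the vector `(0, u)`.
-/

set_option autoImplicit false

namespace Cfsg.Agent.Lib.Helper12.OMB

open Matrix Cfsg.Agent.Lib.helper3.STC Cfsg.Agent.Lib.Lead.STD Cfsg.Agent.Lib.Lead.STB

universe u w

/-! ## the matrix of an element of `Ω` -/

/-- the matrix of an element of `Ω_{2l+1}(F)` -/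
def omatB {F : Type u} [Field F] {l : ℕ} (g : Cfsg.Omega F (Cfsg.quadFormOdd l F)) :
    Matrix (Ix (Fin l)) (Ix (Fin l)) F :=
  (((g : Cfsg.isometryGroup F (Cfsg.quadFormOdd l F)) : Matrix.GeneralLinearGroup (Ix (Fin l)) F) :
    Matrix (Ix (Fin l)) (Ix (Fin l)) F)

theorem omatB_mul {F : Type u} [Field F] {l : ℕ} (g h : Cfsg.Omega F (Cfsg.quadFormOdd l F)) :
    omatB (g * h) = omatB g * omatB h := rfl

theorem omatB_one {F : Type u} [Field F] {l : ℕ} : omatB (1 : Cfsg.Omega F (Cfsg.quadFormOdd l F)) = 1 := rfl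

theorem omatB_injective {F : Type u} [Field F] {l : ℕ} :
    Function.Injective (omatB : Cfsg.Omega F (Cfsg.quadFormOdd l F) → _) := by
  intro g h e
  apply Subtype.ext
  apply Subtype.ext
  apply Units.ext
  exact e

/-- the coercion `Ω →* GL` -/
def oglB {F : Type u} [Field F] {l : ℕ} :
    Cfsg.Omega F (Cfsg.quadFormOdd l F) →* Matrix.GeneralLinearGroup (Ix (Fin l)) F :=
  (Subgroup.subtype _).comp (Subgroup.subtype _)

theorem oglB_coe {F : Type u} [Field F] {l : ℕ} (g : Cfsg.Omega F (Cfsg.quadFormOdd l F)) :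
    ((oglB g : Matrix.GeneralLinearGroup (Ix (Fin l)) F) : Matrix (Ix (Fin l)) (Ix (Fin l)) F) = omatB g := rfl

theorem oglB_injective {F : Type u} [Field F] {l : ℕ} :
    Function.Injective (oglB : Cfsg.Omega F (Cfsg.quadFormOdd l F) →* _) := by
  intro g h e
  apply omatB_injective
  rw [← oglB_coe, ← oglB_coe, e]

/-! ## the form, Siegel transformations, the elementary subgroup -/

variable {l : ℕ} {F : Type u} [Field F]

/-- the polar form of `Cfsg.quadFormOdd l F` -/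
def bB (x y : Ix (Fin l) → F) : F :=
  2 * x i0 * y i0 +
    ∑ i : Fin l, (x (Sum.inr (Sum.inl i)) * y (Sum.inr (Sum.inr i)) + y (Sum.inr (Sum.inl i)) * x (Sum.inr (Sum.inr i)))

/-- the Siegel transformation `x ↦ x + c (B(u,x) v - B(v,x) u)` -/
def sgActB (u v : Ix (Fin l) → F) (c : F) (x : Ix (Fin l) → F) : Ix (Fin l) → F :=
  x + c • (bB u x • v - bB v x • u)

/-- `t` acts as the Siegel transformation `sgActB u v c` -/
def IsSgB (t : Matrix.GeneralLinearGroup (Ix (Fin l)) F) (u v : Ix (Fin l) → F) (c : F) : Prop :=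
  ∀ x, (t : Matrix (Ix (Fin l)) (Ix (Fin l)) F) *ᵥ x = sgActB u v c x

/-- the subgroup of `GL` generated by the long root elements `TbL a b t` and the short root elements `TbS a t` -/
def EOB (l : ℕ) (F : Type u) [Field F] : Subgroup (Matrix.GeneralLinearGroup (Ix (Fin l)) F) :=
  Subgroup.closure {M | (∃ (a b : Fin l ⊕ Fin l) (t : F), a ≠ b ∧ a ≠ ng b ∧
      (M : Matrix (Ix (Fin l)) (Ix (Fin l)) F) = TbL a b t) ∨
    ∃ (a : Fin l ⊕ Fin l) (t : F), (M : Matrix (Ix (Fin l)) (Ix (Fin l)) F) = TbS a t}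

/-! ## the hyperplane `e_0^⊥` -/

/-- `diag(1, A)` -/
def embM {ι : Type w} (A : Matrix (ι ⊕ ι) (ι ⊕ ι) F) : Matrix (Ix ι) (Ix ι) F :=
  Matrix.fromBlocks 1 0 0 A

/-- `A ↦ diag(1, A)` as a monoid homomorphism -/
def embHom (F : Type u) [Field F] (ι : Type w) [Fintype ι] [DecidableEq ι] :
    Matrix (ι ⊕ ι) (ι ⊕ ι) F →* Matrix (Ix ι) (Ix ι) F where
  toFun := embM
  map_one' := Matrix.fromBlocks_one
  map_mul' A B := by
    unfold embM
    rw [Matrix.fromBlocks_multiply]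
    simp

/-- `g ↦ diag(1, g)`, `GL (ι ⊕ ι) F →* GL (Ix ι) F` -/
def embGL (F : Type u) [Field F] (ι : Type w) [Fintype ι] [DecidableEq ι] :
    Matrix.GeneralLinearGroup (ι ⊕ ι) F →* Matrix.GeneralLinearGroup (Ix ι) F :=
  Units.map (embHom F ι)

theorem embGL_coe {ι : Type w} [Fintype ι] [DecidableEq ι] (g : Matrix.GeneralLinearGroup (ι ⊕ ι) F) :
    ((embGL F ι g : Matrix.GeneralLinearGroup (Ix ι) F) : Matrix (Ix ι) (Ix ι) F) =
      embM (g : Matrix (ι ⊕ ι) (ι ⊕ ι) F) := rfl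

/-- the vector `(0, u)` -/
def ex0 {ι : Type w} (u : ι ⊕ ι → F) : Ix ι → F := Sum.elim (fun _ => 0) u

/-- the basis vector `e_k` of the natural module -/
abbrev evB {ι : Type w} [DecidableEq ι] (k : Ix ι) : Ix ι → F := Pi.single k 1

end Cfsg.Agent.Lib.Helper12.OMB
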