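import Mathlib

/-!
# Project OMB, toolkit: extension by zero of a small matrix along an injection of index types.

`ext0 f A = Σ_{x,y} A x y • E_{f x, f y}`; for injective `f` it is additive and multiplicative, `ext0 f (single x y c) = single (f x) (f y) c`, and
`U f N = 1 + ext0 f N` satisfies `U f N * U f N' = U f (N + N' + N * N')`: identities between products of matrices of the shape `1 + (a few elementary matrices)`
reduce to identities in a small matrix ring `Matrix (Fin n) (Fin n) K`.
-/

set_option autoImplicit false
set_option linter.unusedSectionVars false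

namespace Cfsg.Agent.Lib.Helper12.OMB

open Matrix

variable {K : Type*} [CommRing K] {α : Type*} [Fintype α] [DecidableEq α] {I : Type*} [Fintype I] [DecidableEq I]

/-- extension by zero along `f` -/
def ext0 (f : α → I) (A : Matrix α α K) : Matrix I I K :=
  ∑ x : α, ∑ y : α, Matrix.single (f x) (f y) (A x y)

theorem ext0_zero (f : α → I) : ext0 f (0 : Matrix α α K) = 0 := by
  unfold ext0
  simp

theorem ext0_add (f : α → I) (A B : Matrix α α K) : ext0 f (A + B) = ext0 f A + ext0 f B := by
  unfold ext0
  simp only [Matrix.add_apply, Matrix.single_add, Finset.sum_add_distrib]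

theorem ext0_neg (f : α → I) (A : Matrix α α K) : ext0 f (-A) = -ext0 f A := by
  have h := ext0_add f A (-A)
  rw [add_neg_cancel, ext0_zero] at h
  exact (neg_eq_of_add_eq_zero_right h.symm).symm

theorem ext0_sub (f : α → I) (A B : Matrix α α K) : ext0 f (A - B) = ext0 f A - ext0 f B := by
  rw [sub_eq_add_neg, ext0_add, ext0_neg, ← sub_eq_add_neg]

theorem ext0_single (f : α → I) (x y : α) (c : K) :
    ext0 f (Matrix.single x y c) = Matrix.single (f x) (f y) c := by
  unfold ext0
  rw [Finset.sum_eq_single x]
  · rw [Finset.sum_eq_single y]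
    · rw [Matrix.single_apply_same]
    · intro y' _ hy'
      rw [Matrix.single_apply_of_ne _ _ _ _ _ (fun h => hy' h.2.symm), Matrix.single_zero]
    · intro h; exact absurd (Finset.mem_univ _) h
  · intro x' _ hx'
    apply Finset.sum_eq_zero
    intro y' _
    rw [Matrix.single_apply_of_ne _ _ _ _ _ (fun h => hx' h.1.symm), Matrix.single_zero]
  · intro h; exact absurd (Finset.mem_univ _) h

theorem ext0_mul (f : α → I) (hf : Function.Injective f) (A B : Matrix α α K) :
    ext0 f (A * B) = ext0 f A * ext0 f B := by
  unfold ext0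
  rw [Finset.sum_mul]
  apply Finset.sum_congr rfl
  intro x _
  rw [Finset.sum_mul]
  -- RHS: Σ_y E(fx,fy,Axy) * Σ_x' Σ_y' E(fx',fy',Bx'y')
  have h1 : ∀ y : α, Matrix.single (f x) (f y) (A x y) * ∑ x' : α, ∑ y' : α, Matrix.single (f x') (f y') (B x' y') =
      ∑ y' : α, Matrix.single (f x) (f y') (A x y * B y y') := by
    intro y
    rw [Finset.mul_sum, Finset.sum_eq_single y]
    · rw [Finset.mul_sum]
      apply Finset.sum_congr rfl
      intro y' _
      rw [Matrix.single_mul_single_same]
    · intro x' _ hx'
      rw [Finset.mul_sum]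
      apply Finset.sum_eq_zero
      intro y' _
      rw [Matrix.single_mul_single_of_ne _ _ _ _ (fun h => hx' (hf h).symm)]
    · intro h; exact absurd (Finset.mem_univ _) h
  rw [Finset.sum_congr rfl (fun y _ => h1 y), Finset.sum_comm]
  apply Finset.sum_congr rfl
  intro y' _
  rw [Matrix.mul_apply]
  have h2 := map_sum (Matrix.singleAddMonoidHom (f x) (f y') : K →+ Matrix I I K) (fun y => A x y * B y y') Finset.univ
  exact h2

/-- `1 + ext0 f N` -/
def U (f : α → I) (N : Matrix α α K) : Matrix I I K := 1 + ext0 f N

theorem U_zero (f : α → I) : U f (0 : Matrix α α K) = 1 := by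
  unfold U
  rw [ext0_zero, add_zero]

theorem U_mul (f : α → I) (hf : Function.Injective f) (N N' : Matrix α α K) :
    U f N * U f N' = U f (N + N' + N * N') := by
  unfold U
  rw [ext0_add, ext0_add, ext0_mul f hf]
  noncomm_ring

/-- transfer of an identity `(1 + N) * (1 + N') = 1 + N''` -/
theorem U_mul_of (f : α → I) (hf : Function.Injective f) {N N' N'' : Matrix α α K}
    (h : (1 + N) * (1 + N') = 1 + N'') : U f N * U f N' = U f N'' := by
  rw [U_mul f hf]
  congr 1
  have h' : (1 + N) * (1 + N') = 1 + (N + N' + N * N') := by noncomm_ring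
  rw [h'] at h
  exact add_left_cancel h

/-- the block embedding `M ↦ 1 + ext0 f (M - 1)` as a monoid homomorphism -/
def blk (f : α → I) (hf : Function.Injective f) : Matrix α α K →* Matrix I I K where
  toFun M := U f (M - 1)
  map_one' := by rw [sub_self, U_zero]
  map_mul' M N := by
    rw [U_mul f hf]
    congr 1
    noncomm_ring

theorem blk_apply (f : α → I) (hf : Function.Injective f) (M : Matrix α α K) : blk f hf M = 1 + ext0 f (M - 1) := rfl

theorem blk_one_add (f : α → I) (hf : Function.Injective f) (N : Matrix α α K) : blk f hf (1 + N) = 1 + ext0 f N := by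
  rw [blk_apply, add_sub_cancel_left]

end Cfsg.Agent.Lib.Helper12.OMB
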