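import Mathlib
import Cfsg.Agent.Lib.Helper12.OMB.Defs
import Cfsg.Agent.Lib.Helper12.OMB.Blk
import Cfsg.Agent.Lib.Lead.STB.Defs2
import Cfsg.Agent.Lib.Lead.STDB1
import Cfsg.Agent.Lib.Helper24.STCI1
import Cfsg.Agent.Lib.Helper28.CTDM1f

/-!
# Project OMB, block M (helper12), rows M1-M6 VERBATIM: the matrices `TbL a b t`, `TbS a t` satisfy the relations of `SysB`; `tbS`, `tbL`, `matSysB` (target (O-a)).

Method: `TbS a t`, `TbL a b t`, ... are the images of explicit `5 × 5` (resp. `3 × 3`) matrices under the block embedding `blk f` (`Helper12.OMB.Blk`) along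
`f = ![i0, inr a, inr (ng a), inr b, inr (ng b)]`, a monoid homomorphism; the relations are identities of explicit small matrices.
-/

set_option autoImplicit false
set_option linter.unusedSectionVars false
set_option linter.unusedSimpArgs false
set_option linter.unusedTactic false
set_option linter.unreachableTactic false

namespace Cfsg.Agent.Lib.Helper12.OMB

open Matrix Cfsg.Agent.Lib.helper15.St2 Cfsg.Agent.Lib.helper3.STC Cfsg.Agent.Lib.Lead.STD Cfsg.Agent.Lib.Lead.STB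
  Cfsg.Agent.Lib.Lead.SPN Cfsg.Agent.Lib.Helper28.CTD Cfsg.Agent.Lib.Helper28.OMM

universe u w

/-! ## the small matrices -/

section small

variable {F : Type u} [Field F]

/-- `TbS a t` in the basis `0, a, -a, b, -b` -/
def mSa (t : F) : Matrix (Fin 5) (Fin 5) F :=
  !![1, 0, t, 0, 0; -(2 * t), 1, -(t * t), 0, 0; 0, 0, 1, 0, 0; 0, 0, 0, 1, 0; 0, 0, 0, 0, 1]

/-- `TbS b t` -/
def mSb (t : F) : Matrix (Fin 5) (Fin 5) F :=
  !![1, 0, 0, 0, t; 0, 1, 0, 0, 0; 0, 0, 1, 0, 0; -(2 * t), 0, 0, 1, -(t * t); 0, 0, 0, 0, 1]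

/-- `TbL a b t` -/
def mLab (t : F) : Matrix (Fin 5) (Fin 5) F :=
  !![1, 0, 0, 0, 0; 0, 1, 0, t, 0; 0, 0, 1, 0, 0; 0, 0, 0, 1, 0; 0, 0, -t, 0, 1]

/-- `TbL a (ng b) t` -/
def mLanb (t : F) : Matrix (Fin 5) (Fin 5) F :=
  !![1, 0, 0, 0, 0; 0, 1, 0, 0, t; 0, 0, 1, 0, 0; 0, 0, -t, 1, 0; 0, 0, 0, 0, 1]

theorem m5_ss (t u : F) : mSa t * mSb u * mSa (-t) * mSb (-u) = mLanb (-(2 * t * u)) := by
  ext i j
  fin_cases i <;> fin_cases j <;> simp [mSa, mSb, mLanb, Matrix.mul_apply, Fin.sum_univ_succ] <;> ring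

theorem m5_ls (t u : F) : mLab t * mSb u * mLab (-t) * mSb (-u) = mSa (t * u) * mLanb (t * u ^ 2) := by
  ext i j
  fin_cases i <;> fin_cases j <;> simp [mSa, mSb, mLab, mLanb, Matrix.mul_apply, Fin.sum_univ_succ] <;> ring

/-- `TbS a t` in the basis `0, a, -a` -/
def m3Sa (t : F) : Matrix (Fin 3) (Fin 3) F :=
  !![1, 0, t; -(2 * t), 1, -(t * t); 0, 0, 1]

/-- `TbS (ng a) t` in the basis `0, a, -a` -/
def m3Sna (t : F) : Matrix (Fin 3) (Fin 3) F :=
  !![1, t, 0; 0, 1, 0; -(2 * t), -(t * t), 1]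

/-- the short Weyl element -/
def m3W (t : F) : Matrix (Fin 3) (Fin 3) F :=
  !![-1, 0, 0; 0, 0, -(t * t); 0, -(t⁻¹ * t⁻¹), 0]

theorem m3_add (t u : F) : m3Sa t * m3Sa u = m3Sa (t + u) := by
  ext i j
  fin_cases i <;> fin_cases j <;> simp [m3Sa, Matrix.mul_apply, Fin.sum_univ_succ] <;> ring

theorem m3_W {t : F} (ht : t ≠ 0) : m3Sa t * m3Sna t⁻¹ * m3Sa t = m3W t := by
  ext i j
  fin_cases i <;> fin_cases j <;> simp [m3Sa, m3Sna, m3W, Matrix.mul_apply, Fin.sum_univ_succ]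
  all_goals (field_simp)
  all_goals ring

theorem m3_rels {t : F} (ht : t ≠ 0) (u : F) : m3W t * m3Sa u = m3Sna (t⁻¹ ^ 2 * u) * m3W t := by
  ext i j
  fin_cases i <;> fin_cases j <;> simp [m3Sa, m3Sna, m3W, Matrix.mul_apply, Fin.sum_univ_succ]
  all_goals (field_simp)
  all_goals ring

theorem mSa_sub (t : F) : mSa t - 1 = Matrix.single 0 2 t - Matrix.single 1 0 (2 * t) - Matrix.single 1 2 (t * t) := by
  ext i j
  fin_cases i <;> fin_cases j <;> simp [mSa, Matrix.single_apply]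

theorem mSb_sub (t : F) : mSb t - 1 = Matrix.single 0 4 t - Matrix.single 3 0 (2 * t) - Matrix.single 3 4 (t * t) := by
  ext i j
  fin_cases i <;> fin_cases j <;> simp [mSb, Matrix.single_apply]

theorem mLab_sub (t : F) : mLab t - 1 = Matrix.single 1 3 t - Matrix.single 4 2 t := by
  ext i j
  fin_cases i <;> fin_cases j <;> simp [mLab, Matrix.single_apply]

theorem mLanb_sub (t : F) : mLanb t - 1 = Matrix.single 1 4 t - Matrix.single 3 2 t := by
  ext i j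
  fin_cases i <;> fin_cases j <;> simp [mLanb, Matrix.single_apply]

theorem m3Sa_sub (t : F) : m3Sa t - 1 = Matrix.single 0 2 t - Matrix.single 1 0 (2 * t) - Matrix.single 1 2 (t * t) := by
  ext i j
  fin_cases i <;> fin_cases j <;> simp [m3Sa, Matrix.single_apply]

theorem m3Sna_sub (t : F) : m3Sna t - 1 = Matrix.single 0 1 t - Matrix.single 2 0 (2 * t) - Matrix.single 2 1 (t * t) := by
  ext i j
  fin_cases i <;> fin_cases j <;> simp [m3Sna, Matrix.single_apply]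

end small

/-! ## the matrices `TbS`, `TbL` as block images -/

section M

variable {F : Type u} [Field F] {ι : Type w} [Fintype ι] [DecidableEq ι]

/-- the five indices `0, a, -a, b, -b` -/
def f5 (a b : ι ⊕ ι) : Fin 5 → Ix ι := ![i0, Sum.inr a, Sum.inr (ng a), Sum.inr b, Sum.inr (ng b)]

theorem f5_inj {a b : ι ⊕ ι} (hab : a ≠ b) (hab' : a ≠ ng b) : Function.Injective (f5 a b) := by
  have h1 : a ≠ ng a := ne_ng a
  have h2 : b ≠ ng b := ne_ng b
  have h3 : ng a ≠ b := fun h => hab' (by rw [← h, ng_ng])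
  have h4 : ng a ≠ ng b := fun h => hab (ng_inj.mp h)
  intro i j h
  fin_cases i <;> fin_cases j <;> simp [f5, i0] at h ⊢
  all_goals first | exact absurd h ‹_› | exact absurd h.symm ‹_›

/-- the three indices `0, a, -a` -/
def f3 (a : ι ⊕ ι) : Fin 3 → Ix ι := ![i0, Sum.inr a, Sum.inr (ng a)]

theorem f3_inj (a : ι ⊕ ι) : Function.Injective (f3 a) := by
  have h1 : a ≠ ng a := ne_ng a
  intro i j h
  fin_cases i <;> fin_cases j <;> simp [f3, i0] at h ⊢
  all_goals first | exact absurd h ‹_› | exact absurd h.symm ‹_›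

theorem TbSa_eq_blk {a b : ι ⊕ ι} (hab : a ≠ b) (hab' : a ≠ ng b) (t : F) :
    TbS a t = blk (f5 a b) (f5_inj hab hab') (mSa t) := by
  rw [blk_apply, mSa_sub, ext0_sub, ext0_sub, ext0_single, ext0_single, ext0_single]
  unfold TbS
  show _ = 1 + (Matrix.single i0 (Sum.inr (ng a)) t - Matrix.single (Sum.inr a) i0 (2 * t) -
    Matrix.single (Sum.inr a) (Sum.inr (ng a)) (t * t))
  abel

theorem TbSb_eq_blk {a b : ι ⊕ ι} (hab : a ≠ b) (hab' : a ≠ ng b) (t : F) :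
    TbS b t = blk (f5 a b) (f5_inj hab hab') (mSb t) := by
  rw [blk_apply, mSb_sub, ext0_sub, ext0_sub, ext0_single, ext0_single, ext0_single]
  unfold TbS
  show _ = 1 + (Matrix.single i0 (Sum.inr (ng b)) t - Matrix.single (Sum.inr b) i0 (2 * t) -
    Matrix.single (Sum.inr b) (Sum.inr (ng b)) (t * t))
  abel

theorem TbLab_eq_blk {a b : ι ⊕ ι} (hab : a ≠ b) (hab' : a ≠ ng b) (t : F) :
    TbL a b t = blk (f5 a b) (f5_inj hab hab') (mLab t) := by
  rw [blk_apply, mLab_sub, ext0_sub, ext0_single, ext0_single]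
  unfold TbL
  show _ = 1 + (Matrix.single (Sum.inr a) (Sum.inr b) t - Matrix.single (Sum.inr (ng b)) (Sum.inr (ng a)) t)
  abel

theorem TbLanb_eq_blk {a b : ι ⊕ ι} (hab : a ≠ b) (hab' : a ≠ ng b) (t : F) :
    TbL a (ng b) t = blk (f5 a b) (f5_inj hab hab') (mLanb t) := by
  rw [blk_apply, mLanb_sub, ext0_sub, ext0_single, ext0_single]
  unfold TbL
  rw [ng_ng]
  show _ = 1 + (Matrix.single (Sum.inr a) (Sum.inr (ng b)) t - Matrix.single (Sum.inr b) (Sum.inr (ng a)) t)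
  abel

theorem TbSa_eq_blk3 (a : ι ⊕ ι) (t : F) : TbS a t = blk (f3 a) (f3_inj a) (m3Sa t) := by
  rw [blk_apply, m3Sa_sub, ext0_sub, ext0_sub, ext0_single, ext0_single, ext0_single]
  unfold TbS
  show _ = 1 + (Matrix.single i0 (Sum.inr (ng a)) t - Matrix.single (Sum.inr a) i0 (2 * t) -
    Matrix.single (Sum.inr a) (Sum.inr (ng a)) (t * t))
  abel

theorem TbSna_eq_blk3 (a : ι ⊕ ι) (t : F) : TbS (ng a) t = blk (f3 a) (f3_inj a) (m3Sna t) := by
  rw [blk_apply, m3Sna_sub, ext0_sub, ext0_sub, ext0_single, ext0_single, ext0_single]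
  unfold TbS
  rw [ng_ng]
  show _ = 1 + (Matrix.single i0 (Sum.inr a) t - Matrix.single (Sum.inr (ng a)) i0 (2 * t) -
    Matrix.single (Sum.inr (ng a)) (Sum.inr a) (t * t))
  abel

/-! ## M1 -/

/-- M1 -/
theorem TbS_zero (a : ι ⊕ ι) : TbS a (0 : F) = 1 := by
  unfold TbS
  simp

theorem TbS_add (a : ι ⊕ ι) (t u : F) : TbS a t * TbS a u = TbS a (t + u) := by
  rw [TbSa_eq_blk3, TbSa_eq_blk3, TbSa_eq_blk3, ← map_mul, m3_add]

/-- the short root element as an element of `GL` -/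
def tbS (a : ι ⊕ ι) (t : F) : Matrix.GeneralLinearGroup (Ix ι) F :=
  ⟨TbS a t, TbS a (-t), by rw [TbS_add, add_neg_cancel, TbS_zero], by rw [TbS_add, neg_add_cancel, TbS_zero]⟩

theorem tbS_coe (a : ι ⊕ ι) (t : F) : ((tbS a t : Matrix.GeneralLinearGroup (Ix ι) F) : Matrix (Ix ι) (Ix ι) F) = TbS a t := rfl

theorem tbS_inv (a : ι ⊕ ι) (t : F) : (tbS a t : Matrix.GeneralLinearGroup (Ix ι) F)⁻¹ = tbS a (-t) := by
  apply Units.ext
  rfl

/-- the long root element as an element of `GL`: the image of `mx a b t` (`Helper28.CTD`) under `embGL` -/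
def tbL (a b : ι ⊕ ι) (t : F) : Matrix.GeneralLinearGroup (Ix ι) F :=
  embGL F ι (Matrix.SpecialLinearGroup.toGL (mx a b t))

/-- `embM (Td a b t) = TbL a b t` (row V2 states it as `embM_Td`) -/
theorem ombm_embM_Td (a b : ι ⊕ ι) (t : F) : embM (Td a b t) = TbL a b t := by
  unfold embM Td TbL
  ext i j
  rcases i with i | i <;> rcases j with j | j <;>
    simp [Matrix.fromBlocks, Matrix.single_apply, Matrix.one_apply, Matrix.sub_apply, Matrix.add_apply]

theorem tbL_coe {a b : ι ⊕ ι} (hab : a ≠ b) (hab' : a ≠ ng b) (t : F) :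
    ((tbL a b t : Matrix.GeneralLinearGroup (Ix ι) F) : Matrix (Ix ι) (Ix ι) F) = TbL a b t := by
  unfold tbL
  rw [embGL_coe]
  show embM ((mx a b t : Matrix.SpecialLinearGroup (ι ⊕ ι) F) : Matrix (ι ⊕ ι) (ι ⊕ ι) F) = _
  rw [mx_coe a b hab hab', ombm_embM_Td]

/-! ## M2 -/

/-- M2 -/
theorem TbS_comm_TbL {a c d : ι ⊕ ι} (h3 : d ≠ a) (h4 : c ≠ ng a) (t u : F) :
    TbS a t * TbL c d u = TbL c d u * TbS a t := by
  have e1 : (Sum.inr (ng a) : Ix ι) ≠ Sum.inr c := fun h => h4 (Sum.inr.inj h).symm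
  have e2 : (Sum.inr (ng a) : Ix ι) ≠ Sum.inr (ng d) := fun h => h3 (ng_inj.mp (Sum.inr.inj h)).symm
  have e3 : (i0 : Ix ι) ≠ Sum.inr c := fun h => by cases h
  have e4 : (i0 : Ix ι) ≠ Sum.inr (ng d) := fun h => by cases h
  have e5 : (Sum.inr d : Ix ι) ≠ i0 := fun h => by cases h
  have e6 : (Sum.inr d : Ix ι) ≠ Sum.inr a := fun h => h3 (Sum.inr.inj h)
  have e7 : (Sum.inr (ng c) : Ix ι) ≠ i0 := fun h => by cases h
  have e8 : (Sum.inr (ng c) : Ix ι) ≠ Sum.inr a := fun h => h4 (by rw [← Sum.inr.inj h, ng_ng])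
  unfold TbS TbL
  simp only [Matrix.add_mul, Matrix.sub_mul, Matrix.mul_add, Matrix.mul_sub, Matrix.one_mul, Matrix.mul_one,
    Matrix.single_mul_single_of_ne _ _ _ _ e1, Matrix.single_mul_single_of_ne _ _ _ _ e2,
    Matrix.single_mul_single_of_ne _ _ _ _ e3, Matrix.single_mul_single_of_ne _ _ _ _ e4,
    Matrix.single_mul_single_of_ne _ _ _ _ e5, Matrix.single_mul_single_of_ne _ _ _ _ e6,
    Matrix.single_mul_single_of_ne _ _ _ _ e7, Matrix.single_mul_single_of_ne _ _ _ _ e8]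
  abel

/-! ## M3, M4, M5 -/

/-- M3 -/
theorem TbL_TbS_ls {a b : ι ⊕ ι} (hab : a ≠ b) (hab' : a ≠ ng b) (t u : F) :
    TbL a b t * TbS b u * TbL a b (-t) * TbS b (-u) = TbS a (t * u) * TbL a (ng b) (t * u ^ 2) := by
  rw [TbLab_eq_blk hab hab', TbSb_eq_blk hab hab', TbLab_eq_blk hab hab', TbSb_eq_blk hab hab', TbSa_eq_blk hab hab',
    TbLanb_eq_blk hab hab', ← map_mul, ← map_mul, ← map_mul, ← map_mul, m5_ls]

/-- M4 -/
theorem TbS_TbS_ss {a b : ι ⊕ ι} (hab : a ≠ b) (hab' : a ≠ ng b) (t u : F) :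
    TbS a t * TbS b u * TbS a (-t) * TbS b (-u) = TbL a (ng b) (-(2 * t * u)) := by
  rw [TbSa_eq_blk hab hab', TbSb_eq_blk hab hab', TbSa_eq_blk hab hab', TbSb_eq_blk hab hab',
    TbLanb_eq_blk hab hab', ← map_mul, ← map_mul, ← map_mul, m5_ss]

/-- M5 -/
theorem TbS_rels (a : ι ⊕ ι) {t : F} (ht : t ≠ 0) (u : F) :
    (TbS a t * TbS (ng a) t⁻¹ * TbS a t) * TbS a u = TbS (ng a) (t⁻¹ ^ 2 * u) * (TbS a t * TbS (ng a) t⁻¹ * TbS a t) := by
  rw [TbSa_eq_blk3, TbSna_eq_blk3, TbSa_eq_blk3, TbSna_eq_blk3, ← map_mul, ← map_mul, ← map_mul, ← map_mul,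
    m3_W ht, m3_rels ht]

/-- the short Weyl matrix: `e_0 ↦ -e_0`, `e_a ↦ -t⁻² e_{-a}`, `e_{-a} ↦ -t² e_a` -/
theorem ombm_ws_eq (a : ι ⊕ ι) {t : F} (ht : t ≠ 0) :
    TbS a t * TbS (ng a) t⁻¹ * TbS a t = blk (f3 a) (f3_inj a) (m3W t) := by
  rw [TbSa_eq_blk3, TbSna_eq_blk3, ← map_mul, ← map_mul, m3_W ht]

/-! ## M6 -/

/-- M6  **(O-a) the matrix `SysB`** -/
def matSysB (F : Type u) [Field F] (ι : Type w) [Fintype ι] [DecidableEq ι] :
    SysB F ι (Matrix.GeneralLinearGroup (Ix ι) F) where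
  toSysD := (matSys F ι).map ((embGL F ι).comp Matrix.SpecialLinearGroup.toGL)
  xs := tbS
  adds a t u := Units.ext (TbS_add a t u)
  comm_ls a c d h1 h2 h3 h4 t u := by
    show tbS a t * tbL c d u = tbL c d u * tbS a t
    apply Units.ext
    rw [Units.val_mul, Units.val_mul, tbS_coe, tbL_coe h1 h2]
    exact TbS_comm_TbL h3 h4 t u
  ls a b hab hab' t u := by
    have hx : ∀ c d (s : F), (tbL c d s : Matrix.GeneralLinearGroup (Ix ι) F)⁻¹ = tbL c d (-s) := fun c d s =>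
      (SysD.x_neg ((matSys F ι).map ((embGL F ι).comp Matrix.SpecialLinearGroup.toGL)) c d s).symm
    show tbL a b t * tbS b u * (tbL a b t)⁻¹ * (tbS b u)⁻¹ = tbS a (t * u) * tbL a (ng b) (t * u ^ 2)
    rw [hx, tbS_inv]
    apply Units.ext
    have h5 : a ≠ ng (ng b) := by rw [ng_ng]; exact hab
    simp only [Units.val_mul, tbS_coe, tbL_coe hab hab', tbL_coe hab' h5]
    exact TbL_TbS_ls hab hab' t u
  ss a b hab hab' t u := by
    show tbS a t * tbS b u * (tbS a t)⁻¹ * (tbS b u)⁻¹ = tbL a (ng b) (-(2 * t * u))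
    rw [tbS_inv, tbS_inv]
    apply Units.ext
    have h5 : a ≠ ng (ng b) := by rw [ng_ng]; exact hab
    simp only [Units.val_mul, tbS_coe, tbL_coe hab' h5]
    exact TbS_TbS_ss hab hab' t u
  rels a t u ht := by
    show cj (tbS a t * tbS (ng a) t⁻¹ * tbS a t) (tbS a u) = tbS (ng a) (t⁻¹ ^ 2 * u)
    unfold cj
    rw [mul_inv_eq_iff_eq_mul]
    apply Units.ext
    simp only [Units.val_mul, tbS_coe]
    exact TbS_rels a ht u

theorem matSysB_x_eq (a b : ι ⊕ ι) (t : F) : (matSysB F ι).x a b t = tbL a b t := rfl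

theorem matSysB_xs_eq (a : ι ⊕ ι) (t : F) : (matSysB F ι).xs a t = tbS a t := rfl

theorem matSysB_x {a b : ι ⊕ ι} (hab : a ≠ b) (hab' : a ≠ ng b) (t : F) :
    (((matSysB F ι).x a b t : Matrix.GeneralLinearGroup (Ix ι) F) : Matrix (Ix ι) (Ix ι) F) = TbL a b t :=
  tbL_coe hab hab' t

theorem matSysB_xs (a : ι ⊕ ι) (t : F) :
    (((matSysB F ι).xs a t : Matrix.GeneralLinearGroup (Ix ι) F) : Matrix (Ix ι) (Ix ι) F) = TbS a t := rfl

end M

end Cfsg.Agent.Lib.Helper12.OMB
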